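import Cfsg.Agent.EqLemmas

/-!
# Krull–Schmidt for finite groups (owner: helper76)

* `exists_split`: exchange lemma for an indecomposable factor
* `exists_factor`, `unique`: uniqueness of the decomposition (in `Type`)
-/

namespace Cfsg.Agent.KrullSchmidt

/-- Directly indecomposable and nontrivial. -/
def Indec (G : Type*) [Group G] : Prop :=
  Nontrivial G ∧ ∀ H K : Subgroup G, H.Normal → K.Normal → H ⊓ K = ⊥ → H ⊔ K = ⊤ → H = ⊥ ∨ K = ⊥

theorem Indec.of_equiv {G G' : Type*} [Group G] [Group G'] (e : G ≃* G') (h : Indec G) : Indec G' := by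
  haveI := h.1
  refine ⟨e.toEquiv.symm.nontrivial, fun H K hH hK hi hs => ?_⟩
  have he : Function.Surjective (e : G →* G') := e.surjective
  have := h.2 (H.comap e) (K.comap e) (hH.comap _) (hK.comap _) ?_ ?_
  · refine this.imp (fun h0 => ?_) (fun h0 => ?_) <;>
    · have := congrArg (Subgroup.map (e : G →* G')) h0
      rwa [Subgroup.map_comap_eq_self_of_surjective he, Subgroup.map_bot] at this
  · rw [← Subgroup.comap_inf, hi, MonoidHom.comap_bot, MonoidHom.ker_eq_bot_iff]
    exact e.injective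
  · rw [Subgroup.comap_sup_eq _ _ _ he, hs, Subgroup.comap_top]

/-- An indecomposable product has a trivial factor. -/
theorem eq_one_of_indec_prod {G H L : Type*} [Group G] [Group H] [Group L] [Nontrivial H]
    (hG : Indec G) (e : G ≃* H × L) : ∀ l : L, l = 1 := by
  have h' := (hG.of_equiv e).2 (MonoidHom.snd H L).ker (MonoidHom.fst H L).ker inferInstance inferInstance ?_ ?_
  · intro l
    rcases h' with h0 | h0
    · obtain ⟨a, ha⟩ := exists_ne (1 : H)
      exact absurd (congrArg Prod.fst (Subgroup.mem_bot.mp (h0 ▸ (rfl : (a, (1 : L)).2 = 1) : ((a, (1 : L)) ∈ (⊥ : Subgroup (H × L)))))) ha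
    · exact congrArg Prod.snd (Subgroup.mem_bot.mp (h0 ▸ (rfl : ((1 : H), l).1 = 1) : (((1 : H), l) ∈ (⊥ : Subgroup (H × L)))))
  · exact eq_bot_iff.mpr fun x hx => Subgroup.mem_bot.mpr (Prod.ext (MonoidHom.mem_ker.mp hx.2) (MonoidHom.mem_ker.mp hx.1))
  · refine eq_top_iff.mpr fun x _ => ?_
    have : x = (x.1, (1 : L)) * ((1 : H), x.2) := by simp
    rw [this]
    exact Subgroup.mul_mem_sup (MonoidHom.mem_ker.mpr rfl) (MonoidHom.mem_ker.mpr rfl)

/-- Fitting: a normal endomorphism of a finite indecomposable group is injective or nilpotent. -/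
theorem injective_or_nilpotent {H : Type*} [Group H] [Finite H] (hH : Indec H) (φ : H →* H)
    (hn : ∀ a x : H, φ (a * x * a⁻¹) = a * φ x * a⁻¹) :
    Function.Injective φ ∨ ∃ n, ∀ x, φ^[n] x = 1 := by
  obtain ⟨a, b, hne, hab⟩ := Finite.exists_ne_map_eq_of_infinite (fun k : ℕ => (φ^[k] : H → H))
  wlog hlt : a < b generalizing a b
  · exact this b a hne.symm hab.symm (by omega)
  set d := b - a with hd
  have hper : ∀ i k, a ≤ k → φ^[k + i * d] = φ^[k] := by
    intro i
    induction i with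
    | zero => simp
    | succ i ih =>
      intro k hk
      rw [show k + (i + 1) * d = (k - a) + (b + i * d) by rw [Nat.succ_mul]; omega, Function.iterate_add,
        show φ^[b + i * d] = φ^[a + i * d] by
          rw [Nat.add_comm b, Nat.add_comm a, Function.iterate_add, Function.iterate_add]; simp only [hab],
        ih a le_rfl, ← Function.iterate_add, Nat.sub_add_cancel hk]
  set N := (a + 1) * d with hN
  have hNa : a ≤ N := le_trans (Nat.le_succ a) (Nat.le_mul_of_pos_right _ (by omega))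
  have hNpos : 0 < N := Nat.mul_pos (Nat.succ_pos a) (by omega)
  have hidem : ∀ x, φ^[N] (φ^[N] x) = φ^[N] x := fun x => by
    rw [← Function.iterate_add_apply]
    exact congrFun (hper (a + 1) N hNa) x
  let ε : H →* H :=
    { toFun := φ^[N]
      map_one' := Function.iterate_fixed φ.map_one N
      map_mul' := fun x y => by
        induction N generalizing x y with
        | zero => rfl
        | succ m ih => simp only [Function.iterate_succ_apply, map_mul, ih] }
  have hεn : ∀ c x : H, ε (c * x * c⁻¹) = c * ε x * c⁻¹ := by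
    intro c x
    show φ^[N] _ = c * φ^[N] x * c⁻¹
    clear_value N
    clear hN hNa hNpos hidem ε
    induction N with
    | zero => rfl
    | succ m ih => simp only [Function.iterate_succ_apply', ih, hn]
  have hrn : ε.range.Normal := ⟨by
    rintro _ ⟨x, rfl⟩ c
    exact ⟨c * x * c⁻¹, hεn c x⟩⟩
  have hi : ε.ker ⊓ ε.range = ⊥ := by
    refine eq_bot_iff.mpr ?_
    rintro _ ⟨hx, ⟨y, rfl⟩⟩
    have : ε (ε y) = 1 := hx
    exact Subgroup.mem_bot.mpr ((hidem y).symm.trans this)
  have hsup : ε.ker ⊔ ε.range = ⊤ := by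
    refine eq_top_iff.mpr fun x _ => ?_
    rw [show x = x * (ε x)⁻¹ * ε x by group]
    refine Subgroup.mul_mem_sup (MonoidHom.mem_ker.mpr ?_) ⟨x, rfl⟩
    rw [map_mul, map_inv, show ε (ε x) = ε x from hidem x, mul_inv_cancel]
  rcases hH.2 ε.ker ε.range inferInstance hrn hi hsup with h0 | h0
  · left
    have hinj : Function.Injective (φ^[N]) := (ε.ker_eq_bot_iff).mp h0
    obtain ⟨m, hm⟩ := Nat.exists_eq_succ_of_ne_zero hNpos.ne'
    rw [hm, Function.iterate_succ] at hinj
    exact hinj.of_comp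
  · exact Or.inr ⟨N, fun x => Subgroup.mem_bot.mp (h0 ▸ (⟨x, rfl⟩ : ε x ∈ ε.range))⟩

/-- If the composite through `X` is bijective, `H` splits off `X`. -/
theorem split_left {H K X Y : Type} [Group H] [Group K] [Group X] [Group Y] [Finite H] [Finite K]
    [Finite X] [Finite Y] (e : H × K ≃* X × Y)
    (hinj : Function.Injective fun h : H => (e.symm ((e (h, 1)).1, 1)).1) :
    ∃ (L : Type) (_ : Group L) (_ : Finite L), Nonempty (X ≃* H × L) ∧ Nonempty (K ≃* L × Y) := by
  let α : H →* X := (MonoidHom.fst X Y).comp (e.toMonoidHom.comp (MonoidHom.inl H K))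
  let β : X →* H := (MonoidHom.fst H K).comp (e.symm.toMonoidHom.comp (MonoidHom.inl X Y))
  let φ : H ≃* H := MulEquiv.ofBijective (β.comp α) ((Finite.injective_iff_bijective).mp hinj)
  let γ : X →* H := φ.symm.toMonoidHom.comp β
  have hγ : ∀ h, γ (α h) = h := fun h => φ.symm_apply_apply h
  -- the image of `H` is normal in `X`
  have hnorm : ∀ (x : X) (h : H), x * α h * x⁻¹ = α (β x * h * (β x)⁻¹) := by
    intro x h
    have hk : ((β x * h * (β x)⁻¹, (1 : K)) : H × K) = e.symm (x, 1) * (h, 1) * (e.symm (x, 1))⁻¹ := by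
      refine Prod.ext rfl ?_
      simp
    show x * (e (h, 1)).1 * x⁻¹ = (e (β x * h * (β x)⁻¹, 1)).1
    rw [hk, map_mul, map_mul, map_inv, MulEquiv.apply_symm_apply]
    rfl
  have hker : ∀ x : X, (α (γ x))⁻¹ * x ∈ γ.ker := fun x => by
    rw [MonoidHom.mem_ker, map_mul, map_inv, hγ, inv_mul_cancel]
  have hcomm : ∀ (h : H) (x : X), x ∈ γ.ker → α h * x = x * α h := by
    intro h x hx
    have hβ : β x = 1 := by
      have := congrArg φ (MonoidHom.mem_ker.mp hx)
      simpa [γ] using this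
    have := hnorm x h
    rw [hβ] at this
    simp only [one_mul, inv_one, mul_one] at this
    rw [mul_inv_eq_iff_eq_mul] at this
    exact this.symm
  let ρ : X →* γ.ker :=
    { toFun := fun x => ⟨(α (γ x))⁻¹ * x, hker x⟩
      map_one' := Subtype.ext (by simp)
      map_mul' := fun x y => Subtype.ext (by
        show (α (γ (x * y)))⁻¹ * (x * y) = ((α (γ x))⁻¹ * x) * ((α (γ y))⁻¹ * y)
        have := hcomm (γ y)⁻¹ _ (hker x)
        rw [map_inv] at this
        rw [map_mul, map_mul, mul_inv_rev, ← mul_assoc ((α (γ x))⁻¹ * x), ← this]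
        group) }
  have hX : Function.Bijective (γ.prod ρ) := by
    refine ⟨(injective_iff_map_eq_one _).mpr fun x hx => ?_, fun ⟨h, l⟩ => ⟨α h * l, ?_⟩⟩
    · have h1 : γ x = 1 := congrArg Prod.fst hx
      have h2 : (α (γ x))⁻¹ * x = 1 := congrArg Subtype.val (congrArg Prod.snd hx)
      rwa [h1, map_one, inv_one, one_mul] at h2
    · have : γ (α h * l) = h := by rw [map_mul, hγ, MonoidHom.mem_ker.mp l.2, mul_one]
      refine Prod.ext this (Subtype.ext ?_)
      show (α (γ (α h * l)))⁻¹ * (α h * l) = l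
      rw [this]; group
  let eX : X ≃* H × γ.ker := MulEquiv.ofBijective (γ.prod ρ) hX
  refine ⟨γ.ker, inferInstance, inferInstance, ⟨eX⟩, ?_⟩
  let κ : K →* X × Y := e.toMonoidHom.comp (MonoidHom.inr H K)
  let Θ : K →* γ.ker × Y := (ρ.comp ((MonoidHom.fst X Y).comp κ)).prod ((MonoidHom.snd X Y).comp κ)
  have hΘ : Function.Injective Θ := by
    refine (injective_iff_map_eq_one _).mpr fun k hk => ?_
    have hy : (e (1, k)).2 = 1 := congrArg Prod.snd hk
    have hx : (α (γ (e (1, k)).1))⁻¹ * (e (1, k)).1 = 1 := congrArg Subtype.val (congrArg Prod.fst hk)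
    set h := γ (e (1, k)).1
    rw [inv_mul_eq_one] at hx
    have he : e (1, k) = (α h, 1) := Prod.ext hx.symm hy
    have h1 : φ h = 1 := by
      show (e.symm (α h, 1)).1 = 1
      rw [← he, MulEquiv.symm_apply_apply]
    rw [map_eq_one_iff _ φ.injective] at h1
    rw [h1, map_one] at he
    exact congrArg Prod.snd (show ((1 : H), k) = 1 from e.injective (he.trans (map_one e).symm))
  have hcard : Nat.card K = Nat.card (γ.ker × Y) := by
    have h1 := Nat.card_congr e.toEquiv
    rw [Nat.card_prod, Nat.card_prod, Nat.card_congr eX.toEquiv, Nat.card_prod, mul_assoc] at h1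
    rw [Nat.card_prod]
    exact Nat.eq_of_mul_eq_mul_left Nat.card_pos h1
  exact ⟨MulEquiv.ofBijective Θ ((Nat.bijective_iff_injective_and_card _).mpr ⟨hΘ, hcard⟩)⟩

/-- Exchange lemma. -/
theorem exists_split {H K X Y : Type} [Group H] [Group K] [Group X] [Group Y] [Finite H] [Finite K]
    [Finite X] [Finite Y] (hH : Indec H) (e : H × K ≃* X × Y) :
    (∃ (L : Type) (_ : Group L) (_ : Finite L), Nonempty (X ≃* H × L) ∧ Nonempty (K ≃* L × Y)) ∨
    (∃ (L : Type) (_ : Group L) (_ : Finite L), Nonempty (Y ≃* H × L) ∧ Nonempty (K ≃* L × X)) := by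
  by_cases hinj : Function.Injective fun h : H => (e.symm ((e (h, 1)).1, 1)).1
  · exact Or.inl (split_left e hinj)
  refine Or.inr (split_left (e.trans MulEquiv.prodComm) ?_)
  let f := e.trans MulEquiv.prodComm
  let α : H →* Y := (MonoidHom.snd X Y).comp (e.toMonoidHom.comp (MonoidHom.inl H K))
  let β : Y →* H := (MonoidHom.fst H K).comp (e.symm.toMonoidHom.comp (MonoidHom.inr X Y))
  show Function.Injective (β.comp α)
  have hnorm : ∀ c x : H, β.comp α (c * x * c⁻¹) = c * β.comp α x * c⁻¹ := by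
    intro c x
    have hk : ((1 : X), α (c * x * c⁻¹)) = e (c, 1) * (1, α x) * (e (c, 1))⁻¹ := by
      refine Prod.ext ?_ ?_
      · simp
      · show α (c * x * c⁻¹) = _
        rw [map_mul, map_mul, map_inv]; rfl
    show (e.symm (1, α (c * x * c⁻¹))).1 = _
    rw [hk, map_mul, map_mul, map_inv, MulEquiv.symm_apply_apply]
    rfl
  refine (injective_or_nilpotent hH (β.comp α) hnorm).resolve_right ?_
  rintro ⟨n, hn⟩
  apply hinj
  let ψ : H →* H := (MonoidHom.fst H K).comp (e.symm.toMonoidHom.comp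
    ((MonoidHom.inl X Y).comp ((MonoidHom.fst X Y).comp (e.toMonoidHom.comp (MonoidHom.inl H K)))))
  show Function.Injective ψ
  refine (injective_iff_map_eq_one _).mpr fun h hh => ?_
  have hfix : β.comp α h = h := by
    have h1 : e (h, 1) = ((e (h, 1)).1, 1) * (1, (e (h, 1)).2) := by simp
    have h2 := congrArg (fun z => (e.symm z).1) h1
    simp only [MulEquiv.symm_apply_apply, map_mul, Prod.fst_mul] at h2
    rw [show (e.symm ((e (h, 1)).1, 1)).1 = 1 from hh, one_mul] at h2
    exact h2.symm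
  exact (Function.iterate_fixed hfix n).symm.trans (hn h)

/-- Splitting off the first coordinate. -/
def consEquiv {n : ℕ} (B : Fin (n + 1) → Type) [∀ i, Group (B i)] :
    ((j : Fin (n + 1)) → B j) ≃* B 0 × ((j : Fin n) → B j.succ) :=
  { toEquiv := (Fin.consEquiv B).symm, map_mul' := fun _ _ => rfl }

theorem exists_factor : ∀ {n : ℕ} {H K : Type} [Group H] [Group K] [Finite H] [Finite K]
    {B : Fin (n + 1) → Type} [∀ i, Group (B i)] [∀ i, Finite (B i)],
    Indec H → (∀ j, Indec (B j)) → (H × K ≃* ((j : Fin (n + 1)) → B j)) →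
    ∃ j, Nonempty (H ≃* B j) ∧ Nonempty (K ≃* ((i : Fin n) → B (j.succAbove i))) := by
  intro n
  induction n with
  | zero =>
    intro H K _ _ _ _ B _ _ hH hB e
    haveI := hH.1
    have e0 : B 0 ≃* H × K := (haveI : Unique (Fin (0 + 1)) := inferInstanceAs (Unique (Fin 1)); e.trans (MulEquiv.piUnique B)).symm
    have hK := eq_one_of_indec_prod (hB 0) e0
    haveI : Subsingleton K := ⟨fun a b => (hK a).trans (hK b).symm⟩
    haveI : Unique K := uniqueOfSubsingleton 1
    exact ⟨0, ⟨(e0.trans MulEquiv.prodUnique).symm⟩, ⟨MulEquiv.ofUnique⟩⟩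
  | succ n ih =>
    intro H K _ _ _ _ B _ _ hH hB e
    haveI := hH.1
    rcases exists_split hH (e.trans (consEquiv B)) with ⟨L, _, _, ⟨eX⟩, ⟨eK⟩⟩ | ⟨L, _, _, ⟨eY⟩, ⟨eK⟩⟩
    · have hL := eq_one_of_indec_prod (hB 0) eX
      haveI : Subsingleton L := ⟨fun a b => (hL a).trans (hL b).symm⟩
      haveI : Unique L := uniqueOfSubsingleton 1
      refine ⟨0, ⟨(eX.trans MulEquiv.prodUnique).symm⟩, ⟨?_⟩⟩
      exact (eK.trans MulEquiv.uniqueProd).trans
        (MulEquiv.piCongrRight fun i => by rw [Fin.succAbove_zero_apply])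
    · obtain ⟨j, hj, ⟨eL⟩⟩ := ih (B := fun i => B i.succ) hH (fun i => hB _) eY.symm
      refine ⟨j.succ, hj, ⟨?_⟩⟩
      have c0 : ((i : Fin n) → B ((j.succ).succAbove i.succ)) ≃* ((i : Fin n) → B (j.succAbove i).succ) :=
        MulEquiv.piCongrRight fun i => by rw [Fin.succ_succAbove_succ]
      have c1 : B 0 ≃* B ((j.succ).succAbove 0) := by rw [Fin.succ_succAbove_zero]
      exact ((eK.trans (MulEquiv.prodCongr eL (MulEquiv.refl _))).trans MulEquiv.prodComm).trans
        ((MulEquiv.prodCongr c1 c0.symm).trans (consEquiv fun i => B ((j.succ).succAbove i)).symm)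

theorem unique : ∀ {m n : ℕ} {A : Fin m → Type} {B : Fin n → Type} [∀ i, Group (A i)] [∀ j, Group (B j)]
    [∀ i, Finite (A i)] [∀ j, Finite (B j)], (∀ i, Indec (A i)) → (∀ j, Indec (B j)) →
    (((i : Fin m) → A i) ≃* ((j : Fin n) → B j)) → ∃ σ : Fin m ≃ Fin n, ∀ i, Nonempty (A i ≃* B (σ i)) := by
  intro m
  induction m with
  | zero =>
    intro n A B _ _ _ _ _ hB e
    rcases n with _ | n
    · exact ⟨Equiv.refl _, fun i => i.elim0⟩
    · obtain ⟨b, hb⟩ := letI := (hB 0).1; exists_ne (1 : B 0)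
      refine absurd ?_ hb
      have := congrFun (e.apply_symm_apply (Pi.mulSingle 0 b)) 0
      rw [Subsingleton.elim (e.symm (Pi.mulSingle 0 b)) 1, map_one, Pi.one_apply, Pi.mulSingle_eq_same] at this
      exact this.symm
  | succ m ih =>
    intro n A B _ _ _ _ hA hB e
    rcases n with _ | n
    · obtain ⟨a, ha⟩ := letI := (hA 0).1; exists_ne (1 : A 0)
      refine absurd ?_ ha
      have := congrFun (e.injective (Subsingleton.elim (e (Pi.mulSingle 0 a)) (e 1))) 0
      rwa [Pi.mulSingle_eq_same] at this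
    obtain ⟨j, ⟨f⟩, ⟨g⟩⟩ := exists_factor (hA 0) hB ((consEquiv A).symm.trans e)
    obtain ⟨τ, hτ⟩ := ih (fun i => hA i.succ) (fun i => hB _) g
    refine ⟨(finSuccEquiv' 0).trans ((Equiv.optionCongr τ).trans (finSuccEquiv' j).symm), fun i => ?_⟩
    rcases Fin.eq_zero_or_eq_succ i with rfl | ⟨k, rfl⟩
    · refine ⟨f.trans ?_⟩
      simp only [Equiv.trans_apply]
      exact MulEquiv.refl _
    · obtain ⟨h⟩ := hτ k
      refine ⟨h.trans ?_⟩
      rw [← Fin.succAbove_zero_apply k]
      simp only [Equiv.trans_apply]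
      exact MulEquiv.refl _

end Cfsg.Agent.KrullSchmidt
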